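import Groth.Agent.SmoothWeilLib.FibreNZD
import Groth.Agent.S1219
import Groth.Agent.ZClosLib.PurityBC
import Groth.Agent.ZClosLib.NzdAssoc
import Groth.Agent.LC.ExtDim
import Groth.Agent.RG.PureCrit
import Mathlib.RingTheory.Ideal.AssociatedPrime.Localization

/-!
# Flat algebras all of whose fibres have primary zero ideal
-/

set_option linter.style.haveILetI false

universe u

open TensorProduct

namespace Groth.Agent.FlatWeil

/-- Every zero-divisor is nilpotent. -/
def ZNil (R : Type u) [CommRing R] : Prop := ∀ x y : R, x * y = 0 → x = 0 ∨ IsNilpotent y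

theorem ZNil.of_equiv {R R' : Type u} [CommRing R] [CommRing R'] (e : R ≃+* R') (h : ZNil R) : ZNil R' :=
  fun x y hxy => (h (e.symm x) (e.symm y) (by rw [← map_mul, hxy, map_zero])).imp
    (fun h0 => by simpa using congrArg e h0) (fun hy => by simpa using hy.map e)

/-- A Noetherian ring with irreducible spectrum and Cohen-Macaulay localizations has no zero-divisors
outside its nilradical. -/
theorem znil_of_cm {R : Type u} [CommRing R] [IsNoetherianRing R] [IrreducibleSpace (PrimeSpectrum R)]
    (h : ∀ (P : Ideal R) [P.IsPrime], LocCoh.IsCohenMacaulayLocalRing (Localization.AtPrime P)) : ZNil R := by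
  intro x y hxy
  by_contra hne
  simp only [not_or] at hne
  obtain ⟨hx, hy⟩ := hne
  obtain ⟨P, hP, hle⟩ := exists_le_isAssociatedPrime_of_isNoetherianRing R x hx
  haveI := hP.isPrime
  have hyP : y ∈ P := hle (by rw [Submodule.mem_colon_singleton, Submodule.mem_bot, smul_eq_mul, mul_comm, hxy])
  haveI := h P
  have hass : (IsLocalRing.closedPoint (Localization.AtPrime P)).asIdeal ∈
      associatedPrimes (Localization.AtPrime P) (Localization.AtPrime P) := by
    refine Module.associatedPrimes.mem_associatedPrimes_of_comap_mem_associatedPrimes_of_isLocalizedModule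
      P.primeCompl (Algebra.linearMap R (Localization.AtPrime P)) _ ?_
    simpa [IsLocalRing.closedPoint, Localization.AtPrime.under_maximalIdeal] using AssociatedPrimes.mem_iff.mpr hP
  have hdim := LC.coheight_eq_of_ass_of_isCM (Localization.AtPrime P)
    (LocCoh.IsCohenMacaulayLocalRing.supportDim_eq_depth (R := Localization.AtPrime P)) hass
  have h0 : Order.coheight (IsLocalRing.closedPoint (Localization.AtPrime P)) = 0 :=
    Order.coheight_eq_zero.mpr fun q hq => IsLocalRing.le_maximalIdeal q.isPrime.ne_top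
  rw [h0, Module.supportDim_self_eq_ringKrullDim, IsLocalization.AtPrime.ringKrullDim_eq_height P] at hdim
  have hP0 : P.height = 0 := (WithBot.coe_inj.mp hdim).symm
  have hmin : P ∈ minimalPrimes R := Ideal.height_eq_zero_iff.mp hP0
  have hnil : (nilradical R).IsPrime := PrimeSpectrum.irreducibleSpace_iff_isPrime_nilradical.mp inferInstance
  have : P ≤ nilradical R := hmin.2 ⟨hnil, bot_le⟩ (nilradical_le_prime P)
  exact hy (mem_nilradical.mp (this hyP))

variable {O B : Type u} [CommRing O] [CommRing B] [Algebra O B]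

/-- In a flat finitely presented algebra whose fibres have primary zero ideal, an element whose annihilator is, over each
prime of the base, not contained in some prime above it is zero. -/
theorem eq_zero_of_fibrewise [Algebra.FinitePresentation O B] [Module.Flat O B]
    (hdom : ∀ (p : Ideal O) [p.IsPrime], ZNil (p.ResidueField ⊗[O] B)) (x : B)
    (h : ∀ (Q : Ideal B) [Q.IsPrime], ∃ (Q' : Ideal B) (_ : Q'.IsPrime) (u : B),
      Q'.under O = Q.under O ∧ u ∉ Q' ∧ u * x = 0) : x = 0 := by
  classical
  let ann : Ideal B := LinearMap.ker (LinearMap.toSpanSingleton B B x)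
  have hmem : ∀ b, b ∈ ann ↔ b * x = 0 := fun b => by simp [ann]
  suffices ann = ⊤ by simpa using (hmem 1).mp (this ▸ Submodule.mem_top)
  by_contra hne
  obtain ⟨Q, hQ, hle⟩ := Ideal.exists_le_maximal ann hne
  obtain ⟨Q', hQ', u, hQQ', huQ', hux⟩ := h Q
  have huQ : u ∈ Q := hle ((hmem u).mpr hux)
  let p : Ideal O := Q.under O
  haveI : Q.LiesOver p := ⟨rfl⟩
  let l : B →ₐ[O] p.ResidueField ⊗[O] B := Algebra.TensorProduct.includeRight
  have hl : ∀ b, l b = (1 : p.ResidueField) ⊗ₜ[O] b := fun _ => rfl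
  have hker : ∀ b : B, l b = 0 → b ∈ FlatModel.sat p ⊥ Q.primeCompl := fun b hb => by
    obtain ⟨r, hr, hrb⟩ := SmoothWeilLib.exists_smul_mem_of_fibre_eq_zero p b hb
    exact ⟨algebraMap O B r, hr, by rwa [bot_sup_eq]⟩
  have himg : ∀ (P : Ideal B) (_ : P.IsPrime) (_ : P.under O = p) (b : B), b ∉ P → ¬ IsNilpotent (l b) := by
    rintro P hP hPp b hb ⟨n, hn⟩
    rw [← map_pow] at hn
    obtain ⟨r, hr, hrb⟩ := SmoothWeilLib.exists_smul_mem_of_fibre_eq_zero p (b ^ n) hn
    have : algebraMap O B r * b ^ n ∈ P :=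
      (Ideal.map_le_iff_le_comap.mpr (hPp ▸ le_refl _ : p ≤ P.comap (algebraMap O B))) hrb
    exact (hP.mem_or_mem this).elim (fun h' => hr (hPp ▸ h')) fun h' => hb (hP.mem_of_pow_mem n h')
  have hreg : ∀ t, u * t ∈ FlatModel.sat p ⊥ Q.primeCompl → t ∈ FlatModel.sat p ⊥ Q.primeCompl := by
    rintro t ⟨w, hw, hwt⟩
    rw [bot_sup_eq] at hwt
    apply hker
    have h0 : l (w * (u * t)) = 0 := by
      have hwt' : w * (u * t) ∈ (p.map (algebraMap O B)).restrictScalars O := hwt
      rw [← Ideal.smul_top_eq_map] at hwt'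
      refine Submodule.smul_induction_on hwt' (fun r hr b _ => ?_) fun a b ha hb => by rw [map_add, ha, hb, add_zero]
      rw [hl, TensorProduct.tmul_smul, TensorProduct.smul_tmul', Algebra.smul_def,
        Ideal.algebraMap_residueField_eq_zero.mpr hr, zero_mul, TensorProduct.zero_tmul]
    rw [map_mul, map_mul, mul_comm] at h0
    have h1 := (hdom p _ _ h0).resolve_right (himg Q hQ.isPrime rfl w hw)
    rw [mul_comm] at h1
    exact (hdom p _ _ h1).resolve_right (himg Q' hQ' hQQ' u huQ')
  obtain ⟨g, hg, hgood⟩ := Triage.SliceFlat.exists_slice_one u p Q huQ hreg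
  haveI : Module.Flat B (Localization.Away g) := IsLocalization.flat _ (Submonoid.powers g)
  have hx0 : algebraMap B (Localization.Away g) x = 0 :=
    (hgood (Localization.Away g) (IsLocalization.Away.algebraMap_isUnit g)).1 _ (by rw [← map_mul, hux, map_zero])
  obtain ⟨⟨_, n, rfl⟩, hn⟩ := (IsLocalization.map_eq_zero_iff (Submonoid.powers g) _ _).mp hx0
  exact hg (hQ.isPrime.mem_of_pow_mem n (hle ((hmem _).mpr hn)))

attribute [local instance] Algebra.TensorProduct.rightAlgebra in
/-- A faithfully flat finitely presented algebra with primary fibres is projective. -/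
theorem projective_of_znil [Algebra.FinitePresentation O B] [Module.FaithfullyFlat O B]
    (h : ∀ (K : Type u) [Field K] [Algebra O K], ZNil (K ⊗[O] B)) : Module.Projective O B := by
  haveI : Module.FinitePresentation B B := Module.finitePresentation_of_projective B B
  refine (S1219.result (A := O) (B := B) B).mpr fun p _ => RG.isPureAlong_of_isUnivPureAlong ?_
  intro A' B' N' _ _ _ _ _ _ _ _ _ _ _ _ _ _ f t' t _ _ P _ himp
  obtain ⟨hpush, hf, hle, -, hPt, hass, hno⟩ := himp
  haveI := hpush; haveI := hPt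
  haveI : Algebra.IsPushout O A' B B' := hpush.symm
  have efib : ∀ (s : Ideal A') [s.IsPrime], s.Fiber B' ≃+* s.ResidueField ⊗[O] B := fun s _ =>
    ((Algebra.TensorProduct.comm A' s.ResidueField B').toRingEquiv.trans
      (Algebra.IsPushout.cancelBaseChangeAlg O B A' B' s.ResidueField).toRingEquiv).trans
      (Algebra.TensorProduct.comm O s.ResidueField B).symm.toRingEquiv
  have hz : ∀ (s : Ideal A') [s.IsPrime], ZNil (s.Fiber B') := fun s _ =>
    ZNil.of_equiv (efib s).symm (h s.ResidueField)
  let e₀ : N' ≃ₗ[B'] B' := hf.equiv.symm ≪≫ₗ TensorProduct.AlgebraTensorModule.rid B B' B'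
  let e : FlatCA.fiberMod t' B' N' ≃ₗ[t'.Fiber B'] t'.Fiber B' :=
    (LinearEquiv.baseChange B' (t'.Fiber B') N' B' e₀) ≪≫ₗ TensorProduct.AlgebraTensorModule.rid B' (t'.Fiber B') (t'.Fiber B')
  rw [LinearEquiv.AssociatedPrimes.eq e] at hass
  -- every element of an associated prime is nilpotent
  have hnil : ∀ b ∈ FlatCA.fiberIdeal t' P, IsNilpotent b := by
    intro b hb
    obtain ⟨hp', x, hx⟩ := hass
    have hx0 : x ≠ 0 := by
      rintro rfl
      exact hp'.ne_top (by rw [hx]; simp)
    rw [hx] at hb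
    obtain ⟨n, hn⟩ := hb
    rw [Submodule.mem_colon_singleton, Submodule.mem_bot, smul_eq_mul, mul_comm] at hn
    exact IsNilpotent.of_pow ((hz t' _ _ hn).resolve_left hx0)
  haveI : Module.Flat A' B' := Module.Flat.isBaseChange O A' B B' (Algebra.IsPushout.out)
  haveI : Nontrivial (t.ResidueField ⊗[O] B) := (Algebra.TensorProduct.comm O t.ResidueField B).toRingEquiv.nontrivial
  haveI : Nontrivial (t.Fiber B') := (efib t).nontrivial
  obtain ⟨Z⟩ : Nonempty (PrimeSpectrum (t.Fiber B')) := inferInstance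
  haveI := Z.isPrime
  let Q : Ideal B' := Z.asIdeal.comap (Algebra.TensorProduct.includeRight (R := A') (A := t.ResidueField) (B := B')).toRingHom
  haveI hQt : Q.LiesOver t := Groth.Agent.ZClosLib.PurityBC.liesOver_comap t Z.asIdeal
  obtain ⟨Q', hQ'le, hQ', hQ't⟩ := Ideal.exists_ideal_le_liesOver_of_le (p := t') (q := t) Q hle
  obtain ⟨⟨Q₁, hQ₁⟩, hQ₁c⟩ := Groth.Agent.ZClosLib.NzdUnivInj.exists_prime_fiber t' Q'
  refine hno Q ((le_trans ?_ hQ₁c.le).trans hQ'le) hQt
  intro b hb
  obtain ⟨n, hn⟩ := hnil _ (Ideal.mem_map_of_mem (Algebra.TensorProduct.includeRight (R := A') (A := t'.ResidueField) (B := B')).toRingHom hb)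
  exact hQ₁.mem_of_pow_mem n (by rw [hn]; exact zero_mem _)

end Groth.Agent.FlatWeil
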