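import Groth.Agent.FlatWeil.Weil
import Groth.Agent.SmoothWeilLib.GroupDense
import Groth.Agent.GrpSchLib.CoincidenceBase
import Groth.Agent.CMClosed.Basic
import Groth.Agent.S3029
import Groth.Agent.S4599

/-!
# Flat groups with connected fibres: primary fibres, and generation by fibrewise dense opens
-/

set_option linter.style.haveILetI false

universe u

open CategoryTheory CategoryTheory.Limits MonoidalCategory CartesianMonoidalCategory MonObj GrpObj AlgebraicGeometry

noncomputable section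

namespace Groth.Agent.FlatWeil

set_option backward.isDefEq.respectTransparency false

variable {S : Scheme.{u}} {G : Over S} [GrpObj G]

theorem irreducibleSpace_of_openImmersion {X Y : Scheme.{u}} (v : X ⟶ Y) [IsOpenImmersion v] [IrreducibleSpace ↥Y]
    [Nonempty X] : IrreducibleSpace ↥X := by
  haveI : PreirreducibleSpace ↥X := ⟨by
    have := (PreirreducibleSpace.isPreirreducible_univ (X := ↥Y)).preimage v.isOpenEmbedding
    rwa [Set.preimage_univ] at this⟩
  exact ⟨inferInstance⟩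

/-- Affine opens of a connected group over a field have primary zero ideal. -/
theorem znil_chart {K : Type u} [Field K] (H : Over (Spec (CommRingCat.of K))) [GrpObj H] [LocallyOfFiniteType H.hom]
    [IrreducibleSpace ↥H.left] (B : Type u) [CommRing B] (v : Spec (CommRingCat.of B) ⟶ H.left) [IsOpenImmersion v] :
    ZNil B := by
  rcases subsingleton_or_nontrivial B with h | h
  · exact fun x _ _ => Or.inl (Subsingleton.elim _ _)
  haveI : IsLocallyNoetherian H.left := LocallyOfFiniteType.isLocallyNoetherian H.hom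
  haveI : IsLocallyNoetherian (Spec (CommRingCat.of B)) := isLocallyNoetherian_of_isOpenImmersion v
  haveI : IsNoetherianRing B := (isLocallyNoetherian_Spec (R := CommRingCat.of B)).mp inferInstance
  haveI : Nonempty ↥(Spec (CommRingCat.of B)) := inferInstanceAs (Nonempty (PrimeSpectrum B))
  haveI : IrreducibleSpace (PrimeSpectrum B) := irreducibleSpace_of_openImmersion v
  refine znil_of_cm fun P _ => ?_
  let Q : ↥(Spec (CommRingCat.of B)) := ⟨P, inferInstance⟩
  haveI := S3029.result K H (v Q)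
  haveI : LocCoh.IsCohenMacaulayLocalRing ((Spec (CommRingCat.of B)).presheaf.stalk Q) :=
    CMClosed.of_ringEquiv (asIso (v.stalkMap Q)).commRingCatIsoToRingEquiv
  exact CMClosed.of_ringEquiv (R := (Spec (CommRingCat.of B)).presheaf.stalk Q)
    (StructureSheaf.stalkIso B Q).symm.toRingEquiv

/-- The fibres of an open of `G ⊗ X` over `X`. -/
theorem primFibres_open [LocallyOfFiniteType G.hom] (hconn : ∀ s : S, _root_.IsConnected (G.hom ⁻¹' {s})) (X : Over S)
    (O : (G ⊗ X).left.Opens) [Surjective (O.ι ≫ (snd G X).left)] : PrimFibres (O.ι ≫ (snd G X).left) := by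
  intro K _ g
  let τ := g ≫ X.hom
  let H := (Over.pullback τ).obj G
  haveI : LocallyOfFiniteType H.hom := inferInstanceAs (LocallyOfFiniteType (pullback.snd G.hom τ))
  haveI : IrreducibleSpace ↥H.left :=
    (pullbackSymmetry G.hom τ).hom.homeomorph.irreducibleSpace_iff.mpr
      (SmoothWeilLib.irreducibleSpace_tensor_field hconn τ : IrreducibleSpace ↥(Over.mk τ ⊗ G).left)
  let e : pullback g (snd G X).left ≅ H.left :=
    pullbackSymmetry g _ ≪≫ pullbackLeftPullbackSndIso G.hom X.hom g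
  let j : pullback g (O.ι ≫ (snd G X).left) ⟶ pullback g (snd G X).left :=
    pullback.map g _ g (snd G X).left (𝟙 _) O.ι (𝟙 _) (by simp) (by simp)
  haveI : IsOpenImmersion (j ≫ e.hom) := inferInstance
  haveI : Nonempty ↥(pullback g (O.ι ≫ (snd G X).left)) := by
    obtain ⟨z, -⟩ := (inferInstance : Surjective (pullback.fst g (O.ι ≫ (snd G X).left))).surj
      (IsLocalRing.closedPoint K)
    exact ⟨z⟩
  refine ⟨irreducibleSpace_of_openImmersion (j ≫ e.hom),
    fun B _ v _ => znil_chart H B (v ≫ j ≫ e.hom)⟩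

set_option maxHeartbeats 1600000 in
/-- For an open of `P ⊗ G` meeting every fibre over `P`, the products of pairs of its points cover `P ⊗ G`. -/
theorem epi_mul [Flat G.hom] [LocallyOfFinitePresentation G.hom] (hconn : ∀ s : S, _root_.IsConnected (G.hom ⁻¹' {s}))
    (P : Over S) (U : (P ⊗ G).left.Opens) (hU : ∀ q : P.left, ∃ z ∈ U, (fst P G).left z = q) :
    ∃ (Q : Over S) (o : Q ⟶ P ⊗ (G ⊗ G)) (r₁ r₂ : Q ⟶ Over.mk (U.ι ≫ (P ⊗ G).hom)),
      Epi (o ≫ P ◁ μ[G]) ∧ r₁ ≫ Over.homMk U.ι rfl = o ≫ P ◁ fst G G ∧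
        r₂ ≫ Over.homMk U.ι rfl = o ≫ P ◁ snd G G := by
  let π₁ : P ⊗ (G ⊗ G) ⟶ P ⊗ G := P ◁ fst G G
  let π₂ : P ⊗ (G ⊗ G) ⟶ P ⊗ G := P ◁ snd G G
  let O : (P ⊗ (G ⊗ G)).left.Opens := π₁.left ⁻¹ᵁ U ⊓ π₂.left ⁻¹ᵁ U
  let Q : Over S := Over.mk (O.ι ≫ (P ⊗ (G ⊗ G)).hom)
  let o : Q ⟶ P ⊗ (G ⊗ G) := Over.homMk O.ι rfl
  let jU : Over.mk (U.ι ≫ (P ⊗ G).hom) ⟶ P ⊗ G := Over.homMk U.ι rfl
  have hlift : ∀ (π : P ⊗ (G ⊗ G) ⟶ P ⊗ G), O ≤ π.left ⁻¹ᵁ U → ∃ r : Q ⟶ Over.mk (U.ι ≫ (P ⊗ G).hom), r ≫ jU = o ≫ π := by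
    intro π hπ
    have hr : Set.range (O.ι ≫ π.left) ⊆ Set.range U.ι := by
      rintro _ ⟨z, rfl⟩
      rw [Scheme.Opens.range_ι]
      exact hπ z.2
    refine ⟨Over.homMk (IsOpenImmersion.lift U.ι _ hr) ?_, Over.OverMorphism.ext (IsOpenImmersion.lift_fac _ _ _)⟩
    show IsOpenImmersion.lift U.ι _ hr ≫ U.ι ≫ (P ⊗ G).hom = O.ι ≫ _
    rw [IsOpenImmersion.lift_fac_assoc, Category.assoc, Over.w π]
  obtain ⟨r₁, hr₁⟩ := hlift π₁ inf_le_left
  obtain ⟨r₂, hr₂⟩ := hlift π₂ inf_le_right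
  refine ⟨Q, o, r₁, r₂, ?_, hr₁, hr₂⟩
  haveI : Flat μ[G].left := by
    rw [GrpSchLib.mul_eq_id_whiskerRight (G := G), ← GrpSchLib.shearIso_hom_snd, Over.comp_left]
    haveI : Flat (snd G G).left := inferInstanceAs (Flat (pullback.snd G.hom G.hom))
    infer_instance
  haveI : LocallyOfFinitePresentation μ[G].left := by
    rw [GrpSchLib.mul_eq_id_whiskerRight (G := G), ← GrpSchLib.shearIso_hom_snd, Over.comp_left]
    haveI : LocallyOfFinitePresentation (snd G G).left := inferInstanceAs (LocallyOfFinitePresentation (pullback.snd G.hom G.hom))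
    infer_instance
  have h : IsPullback (snd P (G ⊗ G)) (P ◁ μ[G]) μ[G] (snd P G) :=
    IsPullback.of_isLimit' ⟨by simp⟩ (PullbackCone.IsLimit.mk _ (fun c => lift (c.snd ≫ fst P G) c.fst)
      (fun c => by simp) (fun c => by
        apply CartesianMonoidalCategory.hom_ext
        · simp
        · simpa using c.condition)
      fun c k h1 h2 => by
        apply CartesianMonoidalCategory.hom_ext
        · simp [← h2]
        · simp [← h1])
  haveI : Flat (P ◁ μ[G]).left :=
    MorphismProperty.of_isPullback (P := @Flat) (h.map (Over.forget S)) ‹Flat μ[G].left›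
  haveI : LocallyOfFinitePresentation (P ◁ μ[G]).left :=
    MorphismProperty.of_isPullback (P := @LocallyOfFinitePresentation) (h.map (Over.forget S))
      ‹LocallyOfFinitePresentation μ[G].left›
  let m : Q ⟶ P ⊗ G := o ≫ P ◁ μ[G]
  haveI : Flat m.left := by
    rw [show m.left = O.ι ≫ (P ◁ μ[G]).left from rfl]; infer_instance
  haveI : LocallyOfFinitePresentation m.left := by
    rw [show m.left = O.ι ≫ (P ◁ μ[G]).left from rfl]; infer_instance
  haveI : Surjective m.left := by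
    refine ⟨fun z => ?_⟩
    let zp : Over.mk ((P ⊗ G).left.fromSpecResidueField z ≫ (P ⊗ G).hom) ⟶ P ⊗ G :=
      Over.homMk ((P ⊗ G).left.fromSpecResidueField z) rfl
    let κ := Over.mk ((P ⊗ G).left.fromSpecResidueField z ≫ (P ⊗ G).hom)
    haveI : IrreducibleSpace ↥(κ ⊗ G).left :=
      SmoothWeilLib.irreducibleSpace_tensor_field hconn ((P ⊗ G).left.fromSpecResidueField z ≫ (P ⊗ G).hom)
    let σ : κ ⊗ G ⟶ P ⊗ G := lift (fst κ G ≫ zp ≫ fst P G) (snd κ G)
    let τ : κ ⊗ G ⟶ κ ⊗ G := lift (fst κ G) ((snd κ G)⁻¹ * (fst κ G ≫ zp ≫ snd P G))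
    let τ' : κ ⊗ G ⟶ κ ⊗ G := lift (fst κ G) ((fst κ G ≫ zp ≫ snd P G) * (snd κ G)⁻¹)
    have hτ : τ' ≫ τ = 𝟙 _ := by
      apply CartesianMonoidalCategory.hom_ext
      · simp [τ, τ']
      · simp [τ, τ', MonObj.comp_mul, GrpObj.comp_inv]
    have hne : (σ.left ⁻¹' (U : Set (P ⊗ G).left)).Nonempty := by
      have hsq : IsPullback (fst κ G) σ (zp ≫ fst P G) (fst P G) :=
        IsPullback.of_isLimit' ⟨by simp [σ]⟩ (PullbackCone.IsLimit.mk _ (fun c => lift c.fst (c.snd ≫ snd P G))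
          (fun c => by simp) (fun c => by
            apply CartesianMonoidalCategory.hom_ext
            · simpa [σ] using c.condition
            · simp [σ])
          fun c k h1 h2 => by
            apply CartesianMonoidalCategory.hom_ext
            · simp [← h1]
            · simp [σ, ← h2])
      have hsqL := hsq.map (Over.forget S)
      obtain ⟨u, hu, huq⟩ := hU ((zp ≫ fst P G).left (IsLocalRing.closedPoint _))
      obtain ⟨w, -, hw⟩ := Scheme.Pullback.exists_preimage_pullback (f := (zp ≫ fst P G).left) (g := (fst P G).left)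
        (IsLocalRing.closedPoint _) u huq.symm
      refine ⟨hsqL.isoPullback.inv w, ?_⟩
      show σ.left (hsqL.isoPullback.inv w) ∈ U
      rw [show σ.left (hsqL.isoPullback.inv w) = u from
        (congrArg (fun q => q w) hsqL.isoPullback_inv_snd).trans hw]
      exact hu
    have hne' : ((τ ≫ σ).left ⁻¹' (U : Set (P ⊗ G).left)).Nonempty := by
      obtain ⟨w, hw⟩ := hne
      refine ⟨τ'.left w, ?_⟩
      show (τ ≫ σ).left (τ'.left w) ∈ U
      rw [← Scheme.Hom.comp_apply, ← Over.comp_left, reassoc_of% hτ]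
      exact hw
    obtain ⟨w, hw₁, hw₂⟩ := nonempty_preirreducible_inter (U.2.preimage σ.left.continuous)
      (U.2.preimage (τ ≫ σ).left.continuous) hne hne'
    let pr : κ ⊗ G ⟶ P ⊗ (G ⊗ G) := lift (σ ≫ fst P G) (lift (σ ≫ snd P G) (τ ≫ σ ≫ snd P G))
    have h₁ : pr ≫ π₁ = σ := by
      apply CartesianMonoidalCategory.hom_ext <;> simp [pr, π₁]
    have h₂ : pr ≫ π₂ = τ ≫ σ := by
      apply CartesianMonoidalCategory.hom_ext <;> simp [pr, π₂, σ, τ]
    have h₃ : pr ≫ P ◁ μ[G] = fst κ G ≫ zp := by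
      apply CartesianMonoidalCategory.hom_ext
      · simp [pr, σ]
      · simp [pr, σ, τ, ← Hom.mul_def]
    have hwO : pr.left w ∈ O :=
      ⟨show π₁.left (pr.left w) ∈ U by rw [← Scheme.Hom.comp_apply, ← Over.comp_left, h₁]; exact hw₁,
        show π₂.left (pr.left w) ∈ U by rw [← Scheme.Hom.comp_apply, ← Over.comp_left, h₂]; exact hw₂⟩
    refine ⟨⟨pr.left w, hwO⟩, ?_⟩
    show (P ◁ μ[G]).left (pr.left w) = z
    rw [← Scheme.Hom.comp_apply, ← Over.comp_left, h₃, Over.comp_left, Scheme.Hom.comp_apply]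
    exact Scheme.fromSpecResidueField_apply _ _
  have hcov : FpqcDescLib.Covers m.left :=
    FpqcDescLib.covers_of_isCovering (FpqcDescLib.isCovering_of_lfp m.left)
  exact hcov.over_epi

/-- The equalizer of two morphisms is closed where they have common affine neighbourhoods. -/
theorem exists_equalizer {W Y : Over S} (a b : W ⟶ Y)
    (h : ∀ p, ∃ U : Y.left.Opens, IsAffineOpen U ∧ a.left p ∈ U ∧ b.left p ∈ U) :
    ∃ (E : Scheme.{u}) (i : E ⟶ W.left), IsClosedImmersion i ∧
      (LocallyOfFiniteType Y.hom → LocallyOfFinitePresentation i) ∧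
      ∀ (Q : Scheme.{u}) (q : Q ⟶ W.left), (∃ l : Q ⟶ E, l ≫ i = q) ↔ q ≫ a.left = q ≫ b.left := by
  have hab : a.left ≫ Y.hom = b.left ≫ Y.hom := (Over.w a).trans (Over.w b).symm
  let i := pullback.fst (pullback.lift a.left b.left hab) (pullback.diagonal Y.hom)
  refine ⟨_, i, ?_, fun hY => ?_, fun Q q => GrpSchLib.factors_equalizer_iff _ _ _ hab q⟩
  · obtain ⟨E, j, hj, hE⟩ := GrpSchLib.exists_equalizer_of_common_affine (W := W) (X := 𝟙_ (Over S))
      ((ρ_ W).hom ≫ a) ((ρ_ W).hom ≫ b) fun p => h ((ρ_ W).hom.left p)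
    haveI := hj
    haveI : IsIso (ρ_ W).hom.left := inferInstanceAs (IsIso ((Over.forget S).map (ρ_ W).hom))
    let j' := j ≫ (ρ_ W).hom.left
    have hj' : ∀ (Q : Scheme.{u}) (q : Q ⟶ W.left), (∃ l, l ≫ j' = q) ↔ q ≫ a.left = q ≫ b.left := fun Q q => by
      have h1 := hE Q (q ≫ inv (ρ_ W).hom.left)
      rw [Over.comp_left, Over.comp_left, Category.assoc, Category.assoc, IsIso.inv_hom_id_assoc,
        IsIso.inv_hom_id_assoc] at h1
      rw [← h1]
      simp [j', ← Category.assoc, IsIso.eq_comp_inv]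
    obtain ⟨u, hu⟩ := (hj' _ i).mpr ((GrpSchLib.factors_equalizer_iff _ _ _ hab i).mp ⟨𝟙 _, Category.id_comp _⟩)
    obtain ⟨v, hv⟩ := (GrpSchLib.factors_equalizer_iff _ _ _ hab j').mpr ((hj' _ j').mp ⟨𝟙 _, Category.id_comp _⟩)
    haveI : IsIso u := ⟨v, by rw [← cancel_mono i, Category.assoc, hv, hu, Category.id_comp],
      by rw [← cancel_mono j', Category.assoc, hu, hv, Category.id_comp]⟩
    show IsClosedImmersion i
    rw [← hu]
    infer_instance
  · haveI := hY
    exact MorphismProperty.pullback_fst _ _ (S4599.result Y.hom)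

end Groth.Agent.FlatWeil
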