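import Groth.Agent.FlatWeil.Algebra
import Groth.Agent.SmoothWeilLib.ConnWeil

/-!
# Weil restriction of closed subschemes along flat morphisms with primary irreducible fibres
-/

set_option linter.style.haveILetI false

universe u

open CategoryTheory CategoryTheory.Limits AlgebraicGeometry TensorProduct

noncomputable section

set_option backward.isDefEq.respectTransparency false

namespace Groth.Agent.FlatWeil

variable {S X Y : Scheme.{u}} (f : X ⟶ S) [Flat f] [LocallyOfFinitePresentation f]

/-- Over every field-valued point of the base: an irreducible fibre whose affine pieces have primary zero ideal. -/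
def PrimFibres : Prop := ∀ (K : Type u) [Field K] (g : Spec (CommRingCat.of K) ⟶ S),
  IrreducibleSpace ↥(pullback g f) ∧
    ∀ (B : Type u) [CommRing B] (v : Spec (CommRingCat.of B) ⟶ pullback g f) [IsOpenImmersion v], ZNil B

variable (hf : PrimFibres f)

include hf in
omit [Flat f] [LocallyOfFinitePresentation f] in
theorem znil_fibre {C B : Type u} [CommRing C] [CommRing B] [Algebra C B] (c : Spec (CommRingCat.of C) ⟶ S)
    (v : Spec (CommRingCat.of B) ⟶ Limits.pullback c f) [IsOpenImmersion v]
    (hv : v ≫ pullback.fst c f = Spec.map (CommRingCat.ofHom (algebraMap C B)))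
    (K : Type u) [Field K] [Algebra C K] : ZNil (K ⊗[C] B) := by
  let κ := Spec.map (CommRingCat.ofHom (algebraMap C K))
  let T := Spec (CommRingCat.of (K ⊗[C] B))
  let iL : T ⟶ Spec (CommRingCat.of K) :=
    Spec.map (CommRingCat.ofHom (Algebra.TensorProduct.includeLeftRingHom (R := C) (A := K) (B := B)))
  let iR : T ⟶ Spec (CommRingCat.of B) :=
    Spec.map (CommRingCat.ofHom (Algebra.TensorProduct.includeRight (R := C) (A := K) (B := B)).toRingHom)
  have hsq : IsPullback iR iL (Spec.map (CommRingCat.ofHom (algebraMap C B))) κ :=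
    (isPullback_SpecMap_of_isPushout _ _ _ _ (CommRingCat.isPushout_tensorProduct C K B)).flip
  let q : pullback (κ ≫ c) f ⟶ pullback c f :=
    pullback.map (κ ≫ c) f c f κ (𝟙 X) (𝟙 S) (by simp) (by simp)
  have hq1 : q ≫ pullback.fst c f = pullback.fst (κ ≫ c) f ≫ κ := pullback.lift_fst _ _ _
  have hq2 : q ≫ pullback.snd c f = pullback.snd (κ ≫ c) f := (pullback.lift_snd _ _ _).trans (Category.comp_id _)
  have hb : IsPullback q (pullback.fst (κ ≫ c) f) (pullback.fst c f) κ :=
    IsPullback.of_right (by rw [hq2]; exact (IsPullback.of_hasPullback (κ ≫ c) f).flip) hq1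
      (IsPullback.of_hasPullback c f).flip
  let VC : T ⟶ pullback (κ ≫ c) f := hb.lift (iR ≫ v) iL (by rw [Category.assoc, hv]; exact hsq.w)
  have htop : IsPullback iR VC v q := by
    refine IsPullback.of_bot ?_ (hb.lift_fst _ _ _).symm hb
    rw [hb.lift_snd, hv]
    exact hsq
  haveI : IsOpenImmersion VC := MorphismProperty.of_isPullback (P := @IsOpenImmersion) htop ‹IsOpenImmersion v›
  exact (hf K (κ ≫ c)).2 (K ⊗[C] B) VC

include hf in
omit [Flat f] [LocallyOfFinitePresentation f] in
theorem isPreirreducible_fibre {S' : Scheme.{u}} (g : S' ⟶ S) (s : S') :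
    IsPreirreducible (pullback.fst g f ⁻¹' {s}) := by
  let g' := S'.fromSpecResidueField s ≫ g
  let m : pullback g' f ⟶ pullback g f :=
    pullback.map g' f g f (S'.fromSpecResidueField s) (𝟙 X) (𝟙 S) (by simp [g']) (by simp)
  have hb : IsPullback m (pullback.fst g' f) (pullback.fst g f) (S'.fromSpecResidueField s) :=
    IsPullback.of_right (by
      rw [show m ≫ pullback.snd g f = pullback.snd g' f from (pullback.lift_snd _ _ _).trans (Category.comp_id _)]
      exact (IsPullback.of_hasPullback g' f).flip) (pullback.lift_fst _ _ _) (IsPullback.of_hasPullback g f).flip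
  haveI := (hf (S'.residueField s) g').1
  have : pullback.fst g f ⁻¹' {s} = m '' Set.univ := by
    ext z
    constructor
    · intro hz
      obtain ⟨t, ht, -⟩ := Scheme.exists_preimage_of_isPullback hb z (IsLocalRing.closedPoint (S'.residueField s))
        (hz.trans (Scheme.fromSpecResidueField_apply s _).symm)
      exact ⟨t, trivial, ht⟩
    · rintro ⟨t, -, rfl⟩
      show pullback.fst g f (m t) = s
      rw [← Scheme.Hom.comp_apply, hb.w, Scheme.Hom.comp_apply]
      exact Scheme.fromSpecResidueField_apply s _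
  rw [this]
  exact PreirreducibleSpace.isPreirreducible_univ.image _ m.continuous.continuousOn

variable [Surjective f] (y : Y ⟶ X) [IsClosedImmersion y]

include hf in
set_option maxHeartbeats 1600000 in
/-- The ideal cut out over an affine piece by an affine open of the source surjecting onto it. -/
theorem exists_ideal_conn {A : Type u} [CommRing A] (a : Spec (CommRingCat.of A) ⟶ S)
    (W : (pullback a f).Opens) (hW : IsAffineOpen W)
    (hsurj : ∀ p, ∃ z ∈ W, pullback.fst a f z = p) :
    ∃ I : Ideal A, (LocallyOfFinitePresentation y → I.FG) ∧ GrpSchLib.HasIdeal f y a I := by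
  classical
  let E : Type u := Γ(pullback a f, W)
  let θ : CommRingCat.of A ⟶ Γ(pullback a f, W) := Spec.preimage (hW.fromSpec ≫ pullback.fst a f)
  have hθ : Spec.map θ = hW.fromSpec ≫ pullback.fst a f := Spec.map_preimage _
  letI : Algebra A E := θ.hom.toAlgebra
  let v : Spec (CommRingCat.of E) ⟶ pullback a f := hW.fromSpec
  haveI : IsOpenImmersion v := inferInstanceAs (IsOpenImmersion hW.fromSpec)
  have hv : v ≫ pullback.fst a f = Spec.map (CommRingCat.ofHom (algebraMap A E)) := hθ.symm
  haveI : Algebra.FinitePresentation A E := by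
    have h : LocallyOfFinitePresentation (Spec.map θ) := by rw [hθ]; infer_instance
    exact RingHom.finitePresentation_algebraMap.mp
      ((HasRingHomProperty.Spec_iff (P := @LocallyOfFinitePresentation) (φ := θ)).mp h)
  haveI : Module.Flat A E := by
    have h : Flat (Spec.map θ) := by rw [hθ]; infer_instance
    exact RingHom.flat_algebraMap_iff.mp ((HasRingHomProperty.Spec_iff (P := @Flat) (φ := θ)).mp h)
  haveI : Module.FaithfullyFlat A E := Module.FaithfullyFlat.of_comap_surjective fun p => by
    obtain ⟨z, hz, hzp⟩ := hsurj p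
    obtain ⟨w, hw⟩ : z ∈ Set.range v := by
      show z ∈ Set.range hW.fromSpec
      rw [hW.range_fromSpec]; exact hz
    refine ⟨w, ?_⟩
    rw [← hzp, ← hw, ← Scheme.Hom.comp_apply, hv]
    rfl
  obtain ⟨J, hJfg, hJ⟩ := SmoothWeilLib.exists_ideal_factor y (v ≫ pullback.snd a f)
  -- a generating set, finite when the closed subscheme is of finite presentation
  obtain ⟨G, hG, hGfin⟩ : ∃ G : Set E, Ideal.span G = J ∧ (LocallyOfFinitePresentation y → G.Finite) := by
    by_cases h : J.FG
    · obtain ⟨s, hs⟩ := h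
      exact ⟨s, hs, fun _ => s.finite_toSet⟩
    · exact ⟨J, Ideal.span_eq J, fun hy => absurd (hJfg hy) h⟩
  haveI : Module.Projective A E := projective_of_znil fun K _ _ => znil_fibre f hf a v hv K
  obtain ⟨I, hI⟩ := GrpSchLib.exists_contentIdeal_of_projective (A := A) (G : Set E)
  refine ⟨I, fun hy => GrpSchLib.contentIdeal_fg (hGfin hy) hI, fun C _ φ => ?_⟩
  letI := φ.toAlgebra
  let κ := Spec.map (CommRingCat.ofHom φ)
  let g := κ ≫ a
  let P := pullback g f
  let T := Spec (CommRingCat.of (C ⊗[A] E))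
  let iL : T ⟶ Spec (CommRingCat.of C) :=
    Spec.map (CommRingCat.ofHom (Algebra.TensorProduct.includeLeftRingHom (R := A) (A := C) (B := E)))
  let iR : T ⟶ Spec (CommRingCat.of E) :=
    Spec.map (CommRingCat.ofHom (Algebra.TensorProduct.includeRight (R := A) (A := C) (B := E)).toRingHom)
  have hsq : IsPullback iR iL (Spec.map (CommRingCat.ofHom (algebraMap A E))) κ :=
    (isPullback_SpecMap_of_isPushout _ _ _ _ (CommRingCat.isPushout_tensorProduct A C E)).flip
  let q : P ⟶ pullback a f := pullback.map g f a f κ (𝟙 X) (𝟙 S) (by simp [g]) (by simp)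
  have hq1 : q ≫ pullback.fst a f = pullback.fst g f ≫ κ := pullback.lift_fst _ _ _
  have hq2 : q ≫ pullback.snd a f = pullback.snd g f := (pullback.lift_snd _ _ _).trans (Category.comp_id _)
  have hb : IsPullback q (pullback.fst g f) (pullback.fst a f) κ :=
    IsPullback.of_right (by rw [hq2]; exact (IsPullback.of_hasPullback g f).flip) hq1
      (IsPullback.of_hasPullback a f).flip
  let VC : T ⟶ P := hb.lift (iR ≫ v) iL (by rw [Category.assoc, hv]; exact hsq.w)
  have hVq : VC ≫ q = iR ≫ v := hb.lift_fst _ _ _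
  have hVf : VC ≫ pullback.fst g f = iL := hb.lift_snd _ _ _
  have hVs : VC ≫ pullback.snd g f = iR ≫ v ≫ pullback.snd a f := by rw [← hq2, reassoc_of% hVq]
  have htop : IsPullback iR VC v q := by
    refine IsPullback.of_bot ?_ hVq.symm hb
    rw [hVf, hv]
    exact hsq
  haveI : IsOpenImmersion VC := MorphismProperty.of_isPullback (P := @IsOpenImmersion) htop ‹IsOpenImmersion v›
  haveI : Surjective iL := MorphismProperty.of_isPullback (P := @Surjective) hsq
    ⟨fun p => by
      obtain ⟨w, hw⟩ := PrimeSpectrum.comap_surjective_of_faithfullyFlat (A := A) (B := E) p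
      exact ⟨w, hw⟩⟩
  have hcond : (∀ x ∈ G, (1 : C) ⊗ₜ[A] x = 0) ↔ ∃ l : T ⟶ Y, l ≫ y = VC ≫ pullback.snd g f := by
    rw [hVs]
    refine Iff.trans ?_ (hJ (C ⊗[A] E) (Algebra.TensorProduct.includeRight (R := A) (A := C) (B := E)).toRingHom).symm
    rw [← hG, Ideal.span_le]
    rfl
  rw [show RingHom.ker φ = RingHom.ker (algebraMap A C) from rfl, ← hI C, hcond]
  refine ⟨fun ⟨l, hl⟩ => ⟨VC ≫ l, by rw [Category.assoc, hl]⟩, fun ⟨l, hl⟩ => ?_⟩
  -- gluing over the affine opens of the base change
  have hloc : ∀ V : P.affineOpens, ∃ m : (V.1 : Scheme.{u}) ⟶ Y, m ≫ y = V.1.ι ≫ pullback.snd g f := by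
    intro V
    let B : Type u := Γ(P, V.1)
    let θ' : CommRingCat.of C ⟶ Γ(P, V.1) := Spec.preimage (V.2.fromSpec ≫ pullback.fst g f)
    have hθ' : Spec.map θ' = V.2.fromSpec ≫ pullback.fst g f := Spec.map_preimage _
    letI : Algebra C B := θ'.hom.toAlgebra
    let v' : Spec (CommRingCat.of B) ⟶ pullback g f := V.2.fromSpec
    haveI : IsOpenImmersion v' := inferInstanceAs (IsOpenImmersion V.2.fromSpec)
    have hv' : v' ≫ pullback.fst g f = Spec.map (CommRingCat.ofHom (algebraMap C B)) := hθ'.symm
    haveI : Algebra.FinitePresentation C B := by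
      have h : LocallyOfFinitePresentation (Spec.map θ') := by rw [hθ']; infer_instance
      exact RingHom.finitePresentation_algebraMap.mp
        ((HasRingHomProperty.Spec_iff (P := @LocallyOfFinitePresentation) (φ := θ')).mp h)
    haveI : Module.Flat C B := by
      have h : Flat (Spec.map θ') := by rw [hθ']; infer_instance
      exact RingHom.flat_algebraMap_iff.mp ((HasRingHomProperty.Spec_iff (P := @Flat) (φ := θ')).mp h)
    obtain ⟨J', -, hJ'⟩ := SmoothWeilLib.exists_ideal_factor y (v' ≫ pullback.snd g f)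
    have hzero : ∀ x ∈ J', x = 0 := fun x hx => by
      refine eq_zero_of_fibrewise (O := C) (fun p _ => znil_fibre f hf g v' hv' p.ResidueField) x fun Q hQ => ?_
      let Q₀ : PrimeSpectrum B := ⟨Q, hQ⟩
      let s := pullback.fst g f (v' Q₀)
      have hirr : IsPreirreducible (pullback.fst g f ⁻¹' {s}) := isPreirreducible_fibre f hf g s
      obtain ⟨w, hw⟩ := (inferInstance : Surjective iL).surj s
      obtain ⟨z, hzs, ⟨Q₁, rfl⟩, hz⟩ := hirr (Set.range v') (Set.range VC)
        v'.isOpenEmbedding.isOpen_range VC.isOpenEmbedding.isOpen_range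
        ⟨v' Q₀, rfl, Q₀, rfl⟩ ⟨VC w, by
          show pullback.fst g f (VC w) = s
          rw [← Scheme.Hom.comp_apply, hVf]; exact hw, w, rfl⟩
      obtain ⟨_, ⟨r, rfl⟩, hr, hsub⟩ := PrimeSpectrum.isTopologicalBasis_basic_opens.exists_subset_of_mem_open
        hz (v'.continuous.isOpen_preimage _ VC.isOpenEmbedding.isOpen_range)
      let j : Spec (CommRingCat.of (Localization.Away r)) ⟶ Spec (CommRingCat.of B) :=
        Spec.map (CommRingCat.ofHom (algebraMap B (Localization.Away r)))
      have hrange : Set.range (j ≫ v') ⊆ Set.range VC := by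
        rintro _ ⟨t, rfl⟩
        refine hsub ?_
        have : j t ∈ Set.range (PrimeSpectrum.comap (algebraMap B (Localization.Away r))) := ⟨t, rfl⟩
        rw [PrimeSpectrum.localization_away_comap_range (Localization.Away r) r] at this
        exact this
      have hker := (hJ' _ (algebraMap B (Localization.Away r))).mp ⟨IsOpenImmersion.lift VC (j ≫ v') hrange ≫ l, by
        rw [Category.assoc, hl, IsOpenImmersion.lift_fac_assoc, Category.assoc]⟩ hx
      obtain ⟨⟨_, n, rfl⟩, hn⟩ := (IsLocalization.map_eq_zero_iff (Submonoid.powers r) _ _).mp (RingHom.mem_ker.mp hker)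
      refine ⟨Q₁.asIdeal, Q₁.2, r ^ n, ?_, fun h => hr (Q₁.2.mem_of_pow_mem n h), hn⟩
      have h1 : Spec.map (CommRingCat.ofHom (algebraMap C B)) Q₁ = Spec.map (CommRingCat.ofHom (algebraMap C B)) Q₀ := by
        rw [← hv', Scheme.Hom.comp_apply, Scheme.Hom.comp_apply]
        exact hzs
      exact congrArg PrimeSpectrum.asIdeal h1
    obtain ⟨m, hm⟩ := (hJ' B (RingHom.id B)).mpr fun x hx => by
      rw [RingHom.mem_ker, RingHom.id_apply]; exact hzero x hx
    refine ⟨V.2.isoSpec.hom ≫ m, ?_⟩
    rw [Category.assoc, hm, CommRingCat.ofHom_id]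
    show V.2.isoSpec.hom ≫ Spec.map (𝟙 _) ≫ V.2.fromSpec ≫ _ = _
    rw [Spec.map_id, Category.id_comp, IsAffineOpen.isoSpec_hom_fromSpec_assoc]
  choose m hm using hloc
  let 𝒰 := P.openCoverOfIsOpenCover (fun V : P.affineOpens => V.1) (P.isBasis_affineOpens.isOpenCover)
  refine ⟨𝒰.glueMorphisms m fun V V' => ?_, 𝒰.hom_ext _ _ fun V => ?_⟩
  · rw [← cancel_mono y, Category.assoc, Category.assoc]
    exact (congrArg (pullback.fst _ _ ≫ ·) (hm V)).trans
      ((pullback.condition_assoc _).trans (congrArg (pullback.snd _ _ ≫ ·) (hm V')).symm)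
  · rw [Scheme.Cover.ι_glueMorphisms_assoc]
    exact hm V

include hf in
/-- The Weil restriction of a closed subscheme along a flat morphism with irreducible fibres without embedded points. -/
theorem exists_weil :
    ∃ (T : Scheme.{u}) (t : T ⟶ S), IsClosedImmersion t ∧
      (∀ (S' : Scheme.{u}) (g : S' ⟶ S), (∃ g' : S' ⟶ T, g' ≫ t = g) ↔ GrpSchLib.Good f y g) ∧
      (LocallyOfFinitePresentation y → LocallyOfFinitePresentation t) := by
  have key : ∀ {A : Type u} [CommRing A] (a : Spec (CommRingCat.of A) ⟶ S) (p : PrimeSpectrum A),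
      ∃ r : A, r ∉ p.asIdeal ∧ ∃ c : Ideal (Localization.Away r), (LocallyOfFinitePresentation y → c.FG) ∧
        GrpSchLib.HasIdeal f y (Spec.map (CommRingCat.ofHom (algebraMap A (Localization.Away r))) ≫ a) c := by
    intro A _ a p
    obtain ⟨z, hz⟩ := (inferInstance : Surjective (pullback.fst a f)).surj p
    obtain ⟨W, hW, hzW, -⟩ := exists_isAffineOpen_mem_and_subset (show z ∈ (⊤ : (pullback a f).Opens) from trivial)
    have hp : p ∈ pullback.fst a f '' (W : Set _) := ⟨z, hzW, hz⟩
    obtain ⟨_, ⟨r, rfl⟩, hpr, hsub⟩ := PrimeSpectrum.isTopologicalBasis_basic_opens.exists_subset_of_mem_open hp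
      ((pullback.fst a f).isOpenMap _ W.2)
    let κ := Spec.map (CommRingCat.ofHom (algebraMap A (Localization.Away r)))
    haveI : IsOpenImmersion κ := IsOpenImmersion.of_isLocalization r
    let q : pullback (κ ≫ a) f ⟶ pullback a f := pullback.map (κ ≫ a) f a f κ (𝟙 X) (𝟙 S) (by simp) (by simp)
    have hq1 : q ≫ pullback.fst a f = pullback.fst (κ ≫ a) f ≫ κ := pullback.lift_fst _ _ _
    have hb : IsPullback q (pullback.fst (κ ≫ a) f) (pullback.fst a f) κ :=
      IsPullback.of_right (by
        rw [show q ≫ pullback.snd a f = pullback.snd (κ ≫ a) f from (pullback.lift_snd _ _ _).trans (Category.comp_id _)]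
        exact (IsPullback.of_hasPullback (κ ≫ a) f).flip) hq1 (IsPullback.of_hasPullback a f).flip
    haveI : IsAffineHom q := MorphismProperty.of_isPullback (P := @IsAffineHom) hb.flip inferInstance
    obtain ⟨I, hIfg, hI⟩ := exists_ideal_conn f hf y (κ ≫ a) (q ⁻¹ᵁ W) (hW.preimage q) fun p' => by
      have hp' : κ p' ∈ pullback.fst a f '' (W : Set _) := by
        refine hsub ?_
        have : κ p' ∈ Set.range (PrimeSpectrum.comap (algebraMap A (Localization.Away r))) := ⟨p', rfl⟩
        rw [PrimeSpectrum.localization_away_comap_range (Localization.Away r) r] at this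
        exact this
      obtain ⟨z', hz', hzp'⟩ := hp'
      obtain ⟨t, ht1, ht2⟩ := Scheme.exists_preimage_of_isPullback hb z' p' hzp'
      exact ⟨t, show q t ∈ W by rw [ht1]; exact hz', ht2⟩
    exact ⟨r, hpr, I, hIfg, hI⟩
  have hI : GrpSchLib.HasIdeals f y := fun U => by
    refine GrpSchLib.hasIdeal_of_span _ {r : Γ(S, U) | ∃ c, GrpSchLib.HasIdeal f y
      (Spec.map (CommRingCat.ofHom (algebraMap Γ(S, U) (Localization.Away r))) ≫ U.2.fromSpec) c} ?_ fun r => r.2
    by_contra h
    obtain ⟨m, hm, hle⟩ := Ideal.exists_le_maximal _ h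
    obtain ⟨r, hr, c, -, hc⟩ := key U.2.fromSpec ⟨m, hm.isPrime⟩
    exact hr (hle (Ideal.subset_span ⟨c, hc⟩))
  obtain ⟨T, t, ht, hT⟩ := GrpSchLib.exists_weilRestriction hI
  refine ⟨T, t, ht, hT, fun hy => GrpSchLib.locallyOfFinitePresentation_of_hasIdeal hT fun x => ?_⟩
  obtain ⟨U, hU, hxU, -⟩ := exists_isAffineOpen_mem_and_subset (show x ∈ (⊤ : S.Opens) from trivial)
  obtain ⟨r, hr, c, hfg, hc⟩ := key hU.fromSpec (hU.primeIdealOf ⟨x, hxU⟩)
  haveI : IsOpenImmersion (Spec.map (CommRingCat.ofHom (algebraMap Γ(S, U) (Localization.Away r)))) :=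
    IsOpenImmersion.of_isLocalization r
  refine ⟨Localization.Away r, inferInstance, _, inferInstance, ?_, c, hc, hfg hy⟩
  have hQ : hU.primeIdealOf ⟨x, hxU⟩ ∈ Set.range (PrimeSpectrum.comap (algebraMap Γ(S, U) (Localization.Away r))) := by
    rw [PrimeSpectrum.localization_away_comap_range (Localization.Away r) r]
    exact hr
  obtain ⟨z, hz⟩ := hQ
  exact ⟨z, (congrArg (fun q => hU.fromSpec q) hz).trans (hU.fromSpec_primeIdealOf ⟨x, hxU⟩)⟩

end Groth.Agent.FlatWeil
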